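import Groth.Agent.DQCohBrown.Cat
import Groth.Agent.DCohMore.PerfHom
import Groth.Agent.DCohLib.Ghost
import Groth.Agent.BrownRep.Compact
import Groth.Agent.S1002

/-!
# The right adjoint of the derived direct image
-/

set_option autoImplicit false
set_option linter.style.haveILetI false
set_option backward.isDefEq.respectTransparency false

universe w v u

open CategoryTheory CategoryTheory.Limits AlgebraicGeometry CategoryTheory.Pretriangulated

attribute [local instance] HasDerivedCategory.standard

noncomputable section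

namespace Groth.Agent.DQCohBrown

open Groth.Agent.DCohLib Groth.Agent.DCohMore

theorem bijective_comp_shift' {D : Type*} [Category.{v} D] [HasShift D ℤ] {C X Y : D} (f : X ⟶ Y) (n : ℤ)
    (h : Function.Bijective fun g : C⟦-n⟧ ⟶ X => g ≫ f) :
    Function.Bijective fun g : C ⟶ X⟦n⟧ => g ≫ f⟦n⟧' := by
  let adj := (shiftEquiv D n).symm.toAdjunction
  rw [show (fun g : C ⟶ X⟦n⟧ => g ≫ f⟦n⟧') =
      (adj.homEquiv C Y) ∘ (fun g => g ≫ f) ∘ (adj.homEquiv C X).symm from
    funext fun g => ((adj.homEquiv C Y).symm_apply_eq).1 (adj.homEquiv_naturality_right_symm g f)]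
  exact (adj.homEquiv C Y).bijective.comp (h.comp (adj.homEquiv C X).symm.bijective)

variable {X Y : Scheme.{u}}

/-- Maps out of a perfect object into a sum are finite sums. -/
theorem mem_finHom_of_isPerfect [CompactSpace X] [QuasiSeparatedSpace X] {E : DCoh.DQCoh X}
    (hE : DCoh.IsPerfect E.obj) {κ : Type u} (M : κ → DCoh.DQCoh X) (α : E ⟶ ∐ M) :
    α ∈ BrownRep.finHom M E := by
  classical
  let K : κ → DCoh.D X := fun k => (M k).obj
  haveI := hasCoproduct_D' K
  let c := PreservesCoproduct.iso (ObjectProperty.ι (DCoh.IsQCohD (X := X))) M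
  obtain ⟨T, h, hh⟩ := exists_sum_of_homSum K
    ((bijective_perfAux_homSum K (absorbs_of_isPerfect hE K fun k => (M k).property)).2 (α.hom ≫ c.hom))
  let h' : ∀ k, E ⟶ M k := fun k => ObjectProperty.homMk (h k)
  have hα : α = ∑ k ∈ T, h' k ≫ Sigma.ι M k := by
    apply (ObjectProperty.ι (DCoh.IsQCohD (X := X))).map_injective
    rw [← cancel_mono c.hom, Functor.map_sum, Preadditive.sum_comp]
    refine hh.trans (Finset.sum_congr rfl fun k _ => ?_)
    rw [Functor.map_comp, Category.assoc]
    refine congrArg (h k ≫ ·) ?_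
    rw [← cancel_mono c.inv, Category.assoc, Iso.hom_inv_id, Category.comp_id]
    simp only [c, PreservesCoproduct.inv_hom]
    exact ι_comp_sigmaComparison (ObjectProperty.ι (DCoh.IsQCohD (X := X))) M k
  rw [hα]
  exact sum_mem fun k _ => BrownRep.comp_ι_mem_finHom _

theorem isPerfect_shiftQ {E : DCoh.DQCoh X} (hE : DCoh.IsPerfect E.obj) (n : ℤ) :
    DCoh.IsPerfect (E⟦n⟧).obj :=
  isPerfect_iso (((ObjectProperty.ι (DCoh.IsQCohD (X := X))).commShiftIso n).app E).symm (isPerfect_shift hE n)

variable [CompactSpace X] [QuasiSeparatedSpace X] [CompactSpace Y] [QuasiSeparatedSpace Y]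
  (f : X ⟶ Y) [DCoh.HasRpush f] (hf : DCoh.RpushPreservesQCoh f) (a : DCoh.DQCoh Y ⥤ DCoh.DQCoh X)
  (adj : DCoh.RpushQ f hf ⊣ a)

include adj

/-- When the direct image preserves perfect objects, its right adjoint preserves sums. -/
theorem preservesCoproducts_rightAdjoint
    (hperf : ∀ E : DCoh.D X, DCoh.IsPerfect E → DCoh.IsPerfect ((DCoh.Rpush f).obj E)) (κ : Type u) :
    PreservesColimitsOfShape (Discrete κ) a := by
  classical
  let F := DCoh.RpushQ f hf
  obtain ⟨_, _⟩ := exists_triangulated_rpushQ f hf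
  haveI := adj.isLeftAdjoint
  haveI := adj.isRightAdjoint
  haveI := adj.right_adjoint_additive
  obtain ⟨P, hP, hgen⟩ := exists_generator (X := X)
  haveI : ∀ M : κ → DCoh.DQCoh Y, PreservesColimit (Discrete.functor M) a := fun M => by
    haveI : IsIso (sigmaComparison a M) := BrownRep.isIso_of_bijective (fun _ : PUnit.{1} => P)
      (fun C hC => hgen C fun n g => hC PUnit.unit n g) _ fun _ n => bijective_comp_shift' _ n (by
        have hC : DCoh.IsPerfect (P⟦-n⟧).obj := isPerfect_shiftQ hP _
        have hFC : DCoh.IsPerfect (F.obj (P⟦-n⟧)).obj := hperf _ hC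
        refine ⟨fun g h hgh => ?_, fun β => ?_⟩
        · rw [← sub_eq_zero]
          refine BrownRep.eq_zero_of_mem_finHom (mem_finHom_of_isPerfect hC _ _) fun k => ?_
          have hπ : sigmaComparison a M ≫ a.map (Sigma.π M k) = Sigma.π (fun k => a.obj (M k)) k :=
            Sigma.hom_ext _ _ fun j => by
              rw [ι_comp_sigmaComparison_assoc, ← a.map_comp]
              by_cases hjk : j = k
              · subst hjk
                simp
              · rw [Sigma.ι_π_of_ne _ hjk, Sigma.ι_π_of_ne _ hjk, a.map_zero]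
          have h0 : (g - h) ≫ sigmaComparison a M = 0 := by
            rw [Preadditive.sub_comp]
            exact sub_eq_zero.2 hgh
          rw [← hπ, ← Category.assoc, h0, zero_comp]
        · let A := adj.homEquiv (P⟦-n⟧) (∐ M)
          rw [← A.apply_symm_apply β]
          refine BrownRep.finHom_induction
            (p := fun γ => ∃ g, g ≫ sigmaComparison a M = A γ)
            (mem_finHom_of_isPerfect hFC M _) ⟨0, ?_⟩ (fun k x => ?_) ?_
          · rw [zero_comp]
            simp [A, Adjunction.homEquiv_unit]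
          · exact ⟨adj.homEquiv _ _ x ≫ Sigma.ι (fun k => a.obj (M k)) k, by
              rw [Category.assoc, ι_comp_sigmaComparison]
              exact (adj.homEquiv_naturality_right x (Sigma.ι M k)).symm⟩
          · rintro x y ⟨g, hg⟩ ⟨g', hg'⟩
            refine ⟨g + g', ?_⟩
            rw [Preadditive.add_comp, hg, hg']
            simp [A, Adjunction.homEquiv_unit])
    exact PreservesCoproduct.of_iso_comparison a M
  exact preservesColimitsOfShape_of_discrete _

/-- The right adjoint lowers the amplitude from below by a bounded amount. -/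
theorem exists_bound_rightAdjoint [QuasiCompact f] [QuasiSeparated f] :
    ∃ N : ℕ, ∀ (K : DCoh.DQCoh Y) (c : ℤ), (∀ i : ℤ, i ≤ c → IsZero (DCoh.HD K.obj i)) →
      ∀ i : ℤ, i ≤ c - N → IsZero (DCoh.HD (a.obj K).obj i) := by
  obtain ⟨N, hN⟩ := exists_isLE_rpush_qcoh f
  refine ⟨N, fun K c hK i hi => ?_⟩
  let t := DerivedCategory.TStructure.t (C := X.Modules)
  let tY := DerivedCategory.TStructure.t (C := Y.Modules)
  let b : ℤ := c - N + 1
  let W : DCoh.DQCoh X := ⟨(t.truncLT b).obj (a.obj K).obj, isQCohD_truncLT (a.obj K).property b⟩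
  let j : W ⟶ a.obj K := ObjectProperty.homMk ((t.truncLTι b).app (a.obj K).obj)
  have hj : j = 0 := by
    apply (adj.homEquiv W K).symm.injective
    have h0 : ((adj.homEquiv W K).symm 0 : (DCoh.RpushQ f hf).obj W ⟶ K) = 0 := by
      obtain ⟨_, _⟩ := exists_triangulated_rpushQ f hf
      haveI := adj.right_adjoint_additive
      rw [Equiv.symm_apply_eq]
      simp [Adjunction.homEquiv_unit]
    rw [h0]
    apply (ObjectProperty.ι (DCoh.IsQCohD (X := Y))).map_injective
    rw [Functor.map_zero]
    haveI : ((DCoh.Rpush f).obj ((t.truncLT b).obj (a.obj K).obj)).IsLE ((b - 1) + N) :=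
      hN _ (b - 1) W.property (t.isLE_truncLT_obj (a.obj K).obj b (b - 1) (by omega))
    haveI : K.obj.IsGE (c + 1) := (DerivedCategory.isGE_iff _ _).2 fun q hq => hK q (by omega)
    exact tY.zero_of_isLE_of_isGE _ (b - 1 + N) (c + 1) (by omega)
      (inferInstanceAs (tY.IsLE ((DCoh.Rpush f).obj ((t.truncLT b).obj (a.obj K).obj)) (b - 1 + N)))
      (inferInstanceAs (tY.IsGE K.obj (c + 1)))
  haveI := DCohLib.isIso_homology_truncLTι (a.obj K).obj b i (by omega)
  have hz : (DerivedCategory.homologyFunctor X.Modules i).map ((t.truncLTι b).app (a.obj K).obj) = 0 := by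
    rw [show (t.truncLTι b).app (a.obj K).obj = 0 from congrArg (fun φ => φ.hom) hj, Functor.map_zero]
  exact IsZero.of_epi_eq_zero ((DerivedCategory.homologyFunctor X.Modules i).map ((t.truncLTι b).app (a.obj K).obj)) hz

end Groth.Agent.DQCohBrown
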