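import Groth.Agent.BrownRepW.Adjoint
import Groth.Agent.DCohLib.Adjoint
import Groth.Agent.DCohMore.RpushSum
import Groth.Agent.DCohMore.RHomQC
import Groth.Agent.DCohMore.PerfVanish
import Groth.Agent.DCohMore.CompactPerf
import Groth.Agent.DCohMore.BvdBStep
import Groth.Agent.SiteCmpLib.Rpush
import Groth.Prelude.Def_DDual2

/-!
# Brown representability for objects with quasi-coherent cohomology
-/

set_option autoImplicit false
set_option linter.style.haveILetI false
set_option backward.isDefEq.respectTransparency false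

universe u

open CategoryTheory CategoryTheory.Limits AlgebraicGeometry CategoryTheory.Pretriangulated ZeroObject

attribute [local instance] HasDerivedCategory.standard

noncomputable section

namespace Groth.Agent.DQCohBrown

open Groth.Agent.DCohLib Groth.Agent.DCohMore

variable (X : Scheme.{u})

/-- Morphism types of the derived category are essentially small. -/
instance locallySmall_D : LocallySmall.{u} (DCoh.D X) where
  hom_small A B := by
    haveI : (DerivedCategory.Qh (C := X.Modules)).EssSurj :=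
      Localization.essSurj _ (HomotopyCategory.quasiIso X.Modules (ComplexShape.up ℤ))
    let K := DerivedCategory.Qh.objPreimage A
    exact ⟨⟨_, ⟨((DerivedCategory.Qh.objObjPreimageIso A).symm.homFromEquiv).trans
      (KInj.modelHomEquiv (hres_modules X) K B)⟩⟩⟩

instance isTriangulated_isQCohD : (DCoh.IsQCohD (X := X)).IsTriangulated := by
  haveI : (DCoh.IsQCohD (X := X)).IsClosedUnderIsomorphisms :=
    ⟨fun e h => TildeD.isQCohD_of_iso e h⟩
  exact
    { exists_zero := ⟨0, isZero_zero _, fun i => (PullbackMod.isQCoh_and_isFP_of_isFinLocFree _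
        (isFinLocFree_of_isZero ((DerivedCategory.homologyFunctor X.Modules i).map_isZero (isZero_zero _)))).1⟩
      isStableUnderShiftBy := fun n => { le_shift := fun K hK => isQCohD_shift' hK n }
      toIsTriangulatedClosed₂ := .mk' fun T hT h₁ h₃ => isQCohD_obj₂ T hT h₁ h₃ }

instance isClosedUnderColimits_isQCohD (κ : Type u) :
    (DCoh.IsQCohD (X := X)).IsClosedUnderColimitsOfShape (Discrete κ) where
  colimitsOfShape_le := by
    rintro Z ⟨p⟩
    let K : κ → DCoh.D X := fun k => p.diag.obj ⟨k⟩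
    haveI := hasCoproduct_D' K
    let w : Discrete.functor K ≅ p.diag := Discrete.natIso fun _ => Iso.refl _
    let hc : IsColimit ((Cocone.precompose w.hom).obj { pt := Z, ι := p.ι }) :=
      (IsColimit.precomposeHomEquiv w _).symm p.isColimit
    let e : Z ≅ ∐ K := hc.coconePointUniqueUpToIso (colimit.isColimit (Discrete.functor K))
    exact TildeD.isQCohD_of_iso e.symm (isQCohD_coproduct K fun k => p.prop_diag_obj ⟨k⟩)

instance hasColimitsOfShape_D (κ : Type u) : HasColimitsOfShape (Discrete κ) (DCoh.D X) where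
  has_colimit F := by
    haveI : HasColimit (Discrete.functor (F.obj ∘ Discrete.mk)) := hasCoproduct_D' fun k => F.obj ⟨k⟩
    exact hasColimit_of_iso (Discrete.natIsoFunctor (F := F))

instance hasCoproducts_DQCoh : HasCoproducts.{u} (DCoh.DQCoh X) := fun _ => inferInstance

instance hasColimitsOfShape_nat_DQCoh : HasColimitsOfShape (Discrete ℕ) (DCoh.DQCoh X) :=
  hasColimitsOfShape_of_equivalence (Discrete.equivalence (Equiv.ulift.{u} (α := ℕ)))

variable {X}

/-- Objects in the subcategory absorbed by sums. -/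
theorem perfect_of_isPerfect [CompactSpace X] [QuasiSeparatedSpace X] {ι : Type u} (E : ι → DCoh.DQCoh X)
    (hE : ∀ i, DCoh.IsPerfect (E i).obj) : BrownRepW.Perfect E := by
  classical
  intro M i α
  let M' : ULift.{u} ℕ → DCoh.DQCoh X := fun k => M k.down
  let e : (∐ M) ⟶ ∐ M' := Sigma.desc fun k => Sigma.ι M' ⟨k⟩
  let e' : (∐ M') ⟶ ∐ M := Sigma.desc fun k => Sigma.ι M k.down
  have he : e ≫ e' = 𝟙 _ := Sigma.hom_ext _ _ fun k => by simp [e, e']
  let K : ULift.{u} ℕ → DCoh.D X := fun k => (M' k).obj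
  let c := PreservesCoproduct.iso (ObjectProperty.ι (DCoh.IsQCohD (X := X))) M'
  obtain ⟨T, h, hh⟩ := exists_sum_of_homSum K
    ((bijective_perfAux_homSum K (absorbs_of_isPerfect (hE i) K fun k => (M' k).property)).2
      ((α ≫ e).hom ≫ c.hom))
  let h' : ∀ k, E i ⟶ M' k := fun k => ObjectProperty.homMk (h k)
  have hα : α ≫ e = ∑ k ∈ T, h' k ≫ Sigma.ι M' k := by
    apply (ObjectProperty.ι (DCoh.IsQCohD (X := X))).map_injective
    rw [← cancel_mono c.hom, Functor.map_sum, Preadditive.sum_comp]
    refine hh.trans (Finset.sum_congr rfl fun k _ => ?_)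
    rw [Functor.map_comp, Category.assoc]
    refine congrArg (h k ≫ ·) ?_
    rw [← cancel_mono c.inv, Category.assoc, Iso.hom_inv_id, Category.comp_id]
    simp only [c, PreservesCoproduct.inv_hom]
    exact ι_comp_sigmaComparison (ObjectProperty.ι (DCoh.IsQCohD (X := X))) M' k
  refine ⟨fun _ => i, fun k => h' ⟨k⟩, ∑ k ∈ T, Sigma.ι (fun _ : ℕ => E i) k.down, ?_⟩
  rw [← Category.comp_id α, ← he, ← Category.assoc, hα, Preadditive.sum_comp, Preadditive.sum_comp]
  exact Finset.sum_congr rfl fun k _ => by simp [e', M']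

/-- A perfect generator of the category. -/
theorem exists_generator [CompactSpace X] [QuasiSeparatedSpace X] :
    ∃ P : DCoh.DQCoh X, DCoh.IsPerfect P.obj ∧
      ∀ C : DCoh.DQCoh X, (∀ (n : ℤ) (g : P ⟶ C⟦n⟧), g = 0) → IsZero C := by
  obtain ⟨P, hP, -, hgen⟩ := gen_main (X := X) Set.univ isClosed_univ
    (by rw [Set.compl_univ]; exact isCompact_empty)
  refine ⟨⟨P, isQCohD_of_isPerfect hP⟩, hP, fun C hC => ?_⟩
  have h := hgen C.obj C.property (fun _ => Set.subset_univ _) fun n φ => by
    let ι := ObjectProperty.ι (DCoh.IsQCohD (X := X))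
    let e : ι.obj (C⟦n⟧) ≅ (ι.obj C)⟦n⟧ := (ι.commShiftIso n).app C
    let φ' : ι.obj ⟨P, isQCohD_of_isPerfect hP⟩ ⟶ (ι.obj C)⟦n⟧ := φ
    show φ' = 0
    obtain ⟨ψ, hψ⟩ := ι.map_surjective (φ' ≫ e.inv)
    rw [hC n ψ, Functor.map_zero] at hψ
    rw [← cancel_mono e.inv, zero_comp]
    exact hψ.symm
  exact (IsZero.iff_id_eq_zero _).2 ((ObjectProperty.ι _).map_injective (h.eq_of_src _ _))

variable {Y : Scheme.{u}}

theorem exists_triangulated_rpushQ (f : X ⟶ Y) [DCoh.HasRpush f] (hf : DCoh.RpushPreservesQCoh f) :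
    ∃ (_ : (DCoh.RpushQ f hf).CommShift ℤ), (DCoh.RpushQ f hf).IsTriangulated := by
  haveI : SiteCmp.HasRpushD (ModSite.RMor.ofScheme f) := ‹DCoh.HasRpush f›
  obtain ⟨c, t⟩ := SiteCmpLib.exists_triangulated_rpushD (ModSite.RMor.ofScheme f)
  letI c' : (DCoh.Rpush f).CommShift ℤ := c
  haveI t' : (DCoh.Rpush f).IsTriangulated := t
  exact ⟨inferInstance, inferInstance⟩

theorem preservesCoproducts_rpushQ (f : X ⟶ Y) [QuasiCompact f] [QuasiSeparated f] [DCoh.HasRpush f]
    (hf : DCoh.RpushPreservesQCoh f) (κ : Type u) :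
    PreservesColimitsOfShape (Discrete κ) (DCoh.RpushQ f hf) := by
  let ιX := ObjectProperty.ι (DCoh.IsQCohD (X := X))
  let ιY := ObjectProperty.ι (DCoh.IsQCohD (X := Y))
  haveI : PreservesColimitsOfShape (Discrete κ) (DCoh.RpushQ f hf ⋙ ιY) := by
    haveI : ∀ M : κ → DCoh.DQCoh X, PreservesColimit (Discrete.functor M) (ιX ⋙ DCoh.Rpush f) := fun M => by
      let K : κ → DCoh.D X := fun k => (M k).obj
      haveI := isIso_sigmaComparison_rpush f K fun k => (M k).property
      haveI : IsIso (sigmaComparison (DCoh.Rpush f) K) := ‹_›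
      haveI : PreservesColimit (Discrete.functor K) (DCoh.Rpush f) := PreservesCoproduct.of_iso_comparison _ K
      haveI : PreservesColimit (Discrete.functor M ⋙ ιX) (DCoh.Rpush f) :=
        preservesColimit_of_iso_diagram _ (Discrete.natIso fun k => Iso.refl _ :
          Discrete.functor K ≅ Discrete.functor M ⋙ ιX)
      exact comp_preservesColimit _ _
    exact preservesColimitsOfShape_of_discrete (ιX ⋙ DCoh.Rpush f)
  exact preservesColimitsOfShape_of_reflects_of_preserves _ ιY

/-- The derived direct image has a right adjoint. -/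
theorem isLeftAdjoint_rpushQ [CompactSpace X] [QuasiSeparatedSpace X] (f : X ⟶ Y) [QuasiCompact f]
    [QuasiSeparated f] [DCoh.HasRpush f] (hf : DCoh.RpushPreservesQCoh f) :
    (DCoh.RpushQ f hf).IsLeftAdjoint := by
  obtain ⟨_, _⟩ := exists_triangulated_rpushQ f hf
  haveI : ∀ κ : Type u, PreservesColimitsOfShape (Discrete κ) (DCoh.RpushQ f hf) :=
    preservesCoproducts_rpushQ f hf
  obtain ⟨P, hP, hgen⟩ := exists_generator (X := X)
  exact BrownRepW.isLeftAdjoint_of_perfect
    (perfect_of_isPerfect (fun _ : PUnit.{u + 1} => P) fun _ => hP)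
    (fun C hC => hgen C fun n g => hC PUnit.unit n g) (DCoh.RpushQ f hf)

end Groth.Agent.DQCohBrown
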